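import Cfsg.Agent.H190.IF.Core
import Cfsg.Agent.H557.LrChev
import Cfsg.Agent.H17.IFSp.LR
import Cfsg.Agent.ChevalleyStructure.OrderFinal
import Cfsg.Agent.ChevalleyStructure.CardCombAll
import Cfsg.Agent.S1035

/-!
# S5719: the root groups of the Chevalley groups, orders (helper897)

* `neg_one_mem`, `hsim` : the involutions of the fundamental `SL₂`;
* `XX_comm`, `card_XX`, `TT_comm`;
* `num_E6`, `num_E7`, `num_E8` : `|G| (q - 1)^l ≤ |T| q^dim`.
-/

set_option autoImplicit false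
set_option linter.unusedSectionVars false

namespace Cfsg.Agent.H897.IF

open CoxeterSystem
open Cfsg Cfsg.Lie Cfsg.Lie.ChevalleyDatum
open Cfsg.Agent.ChevalleyStructure Cfsg.Agent.ChevalleyStructure.Elts Cfsg.Agent.ChevalleyStructure.CoxeterGeom
  Cfsg.Agent.ChevalleyStructure.RootVec Cfsg.Agent.ChevalleyStructure.RootVecTab
  Cfsg.Agent.ChevalleyStructure.CoxeterGeomTypes Cfsg.Agent.ChevalleyStructure.NPerm
open Cfsg.Agent.Tits.Roots Cfsg.Agent.Nodes.Reps Cfsg.Agent.Nodes.BNOf Cfsg.Agent.Nodes.RGDChev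
  Cfsg.Agent.Nodes.Bruhat Cfsg.Agent.Nodes.Coroot
open Cfsg.Agent.OddHalf.LongSL Cfsg.Agent.OddHalf.LongSL.Chev
open Cfsg.Agent.KFacts.RgdChevCoord (TT XX nc xc ch act coe_xc)
open Cfsg.Agent.GenExc Cfsg.Agent.GenExc.Chev
open Cfsg.Agent.H557.LrAbs Cfsg.Agent.H557.LrSgn Cfsg.Agent.H557.LrTor Cfsg.Agent.H557.LrOrb Cfsg.Agent.H557.LrIso
  Cfsg.Agent.H557.LrChev
open Cfsg.Agent.H190.IF (Inv2 psi psi_apply)
open scoped commutatorElement MatrixGroups

/-- `-1 ∈ ⟨up a, lo b⟩` -/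
theorem neg_one_mem {F : Type*} [Field F] [Finite F] (h2 : (2 : F) ≠ 0) {a b : F} (ha : a ≠ 0) (hb : b ≠ 0) :
    (-1 : SL(2, F)) ∈ Subgroup.closure {SL2Hom.up a, SL2Hom.lo b} := by
  refine Cfsg.Agent.H17.IFSp.lr_sl2 h2 ha hb _ (fun g hg => ?_) (fun g hg => ?_)
  · have : g = SL2Hom.lo b := Subtype.ext hg
    rw [this]
    exact Subgroup.subset_closure (Or.inr rfl)
  · have : g = SL2Hom.up a := Subtype.ext hg
    rw [this]
    exact Subgroup.subset_closure (Or.inl rfl)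

variable {D : ChevalleyDatum} {l : ℕ} {M : CoxeterMatrix (Fin l)} (hp : IsType D l M) {K : Type} [Field K]
  {W : Type*} [Group W] (cs : CoxeterSystem M W)

/-- the root groups are commutative -/
theorem XX_comm {b : Fin l → ℤ} (hb : IsRoot cs hp.isCartan b) : ∀ x ∈ XX D l K b, ∀ y ∈ XX D l K b, x * y = y * x := by
  obtain ⟨s, hs, rfl⟩ := (isRoot_iff hp cs b).1 hb
  intro x hx y hy
  obtain ⟨t, ht⟩ := (mem_XX hp K hs).1 hx
  obtain ⟨t', ht'⟩ := (mem_XX hp K hs).1 hy
  apply Subtype.ext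
  rw [Subgroup.coe_mul, Subgroup.coe_mul, ht, ht', xG_add, xG_add, add_comm]

/-- the order of a root group -/
theorem card_XX {x : Fin l → ℤ} (hx : IsRoot cs hp.isCartan x) : Nat.card (XX D l K x) = Nat.card K := by
  obtain ⟨r, hr, rfl⟩ := (isRoot_iff hp cs x).1 hx
  refine (Nat.card_congr (Equiv.ofBijective (fun t : K => (⟨⟨xG hp.inList r t, xG_mem_group hp.inList r t⟩,
    (mem_XX hp K hr).2 ⟨t, rfl⟩⟩ : XX D l K (vec D l r))) ⟨?_, ?_⟩)).symm
  · intro s t h
    exact xG_injective hp.inList hr (congrArg (fun z : XX D l K (vec D l r) => ((z : ↥(D.group K)) : GL D.Idx K)) h)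
  · rintro ⟨u, hu⟩
    obtain ⟨t, ht⟩ := (mem_XX hp K hr).1 hu
    exact ⟨t, Subtype.ext (Subtype.ext ht.symm)⟩

/-- **The involutions of the fundamental `SL₂`.** -/
theorem hsim [Finite W] [Finite K] (h2 : (2 : K) ≠ 0) (i : Fin l) :
    ∃ z, Inv2 cs hp.isCartan (TT D K) (XX D l K) (sr i) z := by
  have hri := isRoot_sr cs hp.isCartan i
  have h0 := RootVec.simple_lt hp.checked (lt_rank hp i)
  have e1 : (sr i : Fin l → ℤ) = vec D l (D.simple i) := (vec_simple hp i).symm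
  have e2 : (-sr i : Fin l → ℤ) = vec D l (D.neg (D.simple i)) := by rw [vec_neg hp h0, vec_simple hp i]
  have hS := sgnEl_zS hp K cs [i]
  have hpsi : ∀ a, psi hri a = csz (cartanOf D l) [i] a := by
    intro a
    rw [psi_apply, csz_apply]
    unfold csv
    rw [List.map_singleton, List.sum_singleton, cpr_sr]
  refine ⟨zS hp K [i], hri, ⟨hS.mem, fun a ha h1 => hS.fix a ha (by rw [← hpsi]; exact h1),
    fun a ha h1 => hS.inv a ha (by rw [← hpsi]; exact h1)⟩, ?_⟩
  intro u hu v hv hu1 hv1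
  have hz : zS hp K [i] = phi hp K i (-1) := by rw [zS_cons, zS_nil, mul_one]
  obtain ⟨a, ha⟩ := (mem_XX hp K h0).1 (show u ∈ XX D l K (vec D l (D.simple i)) by rw [← e1]; exact hu)
  obtain ⟨b, hb⟩ := (mem_XX hp K (neg_lt hp.checked h0)).1
    (show v ∈ XX D l K (vec D l (D.neg (D.simple i))) by rw [← e2]; exact hv)
  have ea : u = phi hp K i (SL2Hom.up a) := Subtype.ext (by rw [phi_up, ha])
  have eb : v = phi hp K i (SL2Hom.lo b) := Subtype.ext (by rw [phi_lo, hb])
  have ha0 : a ≠ 0 := by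
    rintro rfl
    apply hu1
    apply Subtype.ext
    rw [ha, xG_zero]; rfl
  have hb0 : b ≠ 0 := by
    rintro rfl
    apply hv1
    apply Subtype.ext
    rw [hb, xG_zero]; rfl
  rw [hz, ea, eb]
  have h3 := Subgroup.mem_map_of_mem (phi hp K i) (neg_one_mem h2 ha0 hb0)
  rw [MonoidHom.map_closure, Set.image_pair] at h3
  exact h3

/-! ### orders -/

theorem prod_le (q : ℕ) (L : List ℕ) : (L.map fun k => q ^ k - 1).prod ≤ q ^ L.sum := by
  induction L with
  | nil => simp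
  | cons a L ih =>
    rw [List.map_cons, List.prod_cons, List.sum_cons, pow_add]
    exact Nat.mul_le_mul (Nat.sub_le _ _) ih

theorem card_TT (hD : InList D) : Nat.card (TT D K) = Nat.card (D.diagonalSubgroup K) :=
  Nat.card_congr (Subgroup.subgroupOfEquivOfLe (diagonal_le_group hD K)).toEquiv

theorem num_aux {d g t q r N S : ℕ} {L : List ℕ} (hd : 0 < d) (h1 : d * g = q ^ N * (L.map fun k => q ^ k - 1).prod)
    (h2 : d * t = (q - 1) ^ r) (hS : N + L.sum = S) : g * (q - 1) ^ r ≤ t * q ^ S := by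
  refine Nat.le_of_mul_le_mul_left ?_ hd
  calc d * (g * (q - 1) ^ r) = (d * g) * (q - 1) ^ r := by ring
    _ = q ^ N * (L.map fun k => q ^ k - 1).prod * (d * t) := by rw [h1, h2]
    _ ≤ q ^ N * q ^ L.sum * (d * t) := by gcongr; exact prod_le q L
    _ = d * (t * q ^ S) := by rw [← hS, pow_add]; ring

theorem num_E6 [Fintype K] : Nat.card (chevE6.group K) * (Nat.card K - 1) ^ 6 ≤ Nat.card (TT chevE6 K) * Nat.card K ^ 78 := by
  rw [card_TT (by simp), Nat.card_eq_fintype_card (α := K)]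
  have h1 := OrderFinal.order_formula (F := K) rfl chevE6 (Nat.gcd 3 (Fintype.card K - 1)) [2, 5, 6, 8, 9, 12] (by simp)
    (by simp) (CardCombAll.comb_of_mem (by simp)) (by simp) rfl
  have h2 := S1035.result (F := K) rfl (chevE6, Nat.gcd 3 (Fintype.card K - 1)) (by simp)
  exact num_aux (Nat.gcd_pos_of_pos_left _ (by norm_num)) h1 h2 rfl

theorem num_E7 [Fintype K] : Nat.card (chevE7.group K) * (Nat.card K - 1) ^ 7 ≤ Nat.card (TT chevE7 K) * Nat.card K ^ 133 := by
  rw [card_TT (by simp), Nat.card_eq_fintype_card (α := K)]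
  have h1 := OrderFinal.order_formula (F := K) rfl chevE7 (Nat.gcd 2 (Fintype.card K - 1)) [2, 6, 8, 10, 12, 14, 18]
    (by simp) (by simp) (CardCombAll.comb_of_mem (by simp)) (by simp) rfl
  have h2 := S1035.result (F := K) rfl (chevE7, Nat.gcd 2 (Fintype.card K - 1)) (by simp)
  exact num_aux (Nat.gcd_pos_of_pos_left _ (by norm_num)) h1 h2 rfl

theorem num_E8 [Fintype K] : Nat.card (chevE8.group K) * (Nat.card K - 1) ^ 8 ≤ Nat.card (TT chevE8 K) * Nat.card K ^ 248 := by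
  rw [card_TT (by simp), Nat.card_eq_fintype_card (α := K)]
  have h1 := OrderFinal.order_formula (F := K) rfl chevE8 1 [2, 8, 12, 14, 18, 20, 24, 30]
    (by simp) (by simp) (CardCombAll.comb_of_mem (by simp)) (by simp) rfl
  have h2 := S1035.result (F := K) rfl (chevE8, 1) (by simp)
  exact num_aux (by norm_num) h1 h2 rfl

end Cfsg.Agent.H897.IF
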