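import Cfsg.Agent.H203.IF.Heis
import Cfsg.Agent.H808.Gs.Root

/-!
# S5719: Heisenberg groups of long roots in simply laced groups, and the chains (helper897)

* `heis` : the datum of helper203 for a root `b` in a closed set of roots (`Cl P`);
* `card_QQ` : its order;
* `phi_chain` : a chain of orthogonal roots in `P` gives `Phi` with the constant `q ^ wt`.
-/

set_option autoImplicit false
set_option linter.unusedSectionVars false

namespace Cfsg.Agent.H897.IF

open Subgroup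
open CoxeterSystem Cfsg.Agent.ChevalleyStructure.CoxeterGeom Cfsg.Agent.Tits.Roots Cfsg.Agent.Tits.Core
  Cfsg.Agent.Nodes.Reps Cfsg.Agent.Nodes.BNOf Cfsg.Agent.Nodes.Coroot Cfsg.Agent.KFacts.RgdSL
open Cfsg.Agent.H808.Gs (bil cpr_eq_bil comm_X')
open Cfsg.Agent.H203.IF (Heis QQ Phi)
open scoped commutatorElement

variable {I W Y : Type*} [Fintype I] [DecidableEq I] [Group W] [Group Y] {M : CoxeterMatrix I}
  {cs : CoxeterSystem M W} {A : I → I → ℤ} {h : IsCartan M A} {p : ℕ} {T : Subgroup Y} {n : I → Y}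
  {X : (I → ℤ) → Subgroup Y}

/-! ### the combinatorics -/

/-- the list of the roots -/
structure RL (cs : CoxeterSystem M W) (h : IsCartan M A) (Rts : List (I → ℤ)) : Prop where
  mem : ∀ x, x ∈ Rts ↔ IsRoot cs h x
  nodup : Rts.Nodup

/-- the indicator of a subgroup of the lattice -/
structure Cl (P : (I → ℤ) → Bool) : Prop where
  add : ∀ x y, P x = true → P y = true → P (x + y) = true
  neg : ∀ x, P x = true → P (-x) = true

theorem bil_add (x y b : I → ℤ) : bil A (x + y) b = bil A x b + bil A y b := by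
  unfold bil
  rw [← Finset.sum_add_distrib]
  exact Finset.sum_congr rfl fun i _ => by rw [Pi.add_apply]; ring

theorem bil_neg (x b : I → ℤ) : bil A (-x) b = -bil A x b := by
  unfold bil
  rw [← Finset.sum_neg_distrib]
  exact Finset.sum_congr rfl fun i _ => by rw [Pi.neg_apply]; ring

/-- orthogonal to `b` -/
def Pp (A : I → I → ℤ) (P : (I → ℤ) → Bool) (b : I → ℤ) : (I → ℤ) → Bool := fun x => P x && decide (bil A x b = 0)

theorem pp_iff {P : (I → ℤ) → Bool} {b x : I → ℤ} : Pp A P b x = true ↔ P x = true ∧ bil A x b = 0 := by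
  unfold Pp
  rw [Bool.and_eq_true, decide_eq_true_iff]

theorem Cl.perp {P : (I → ℤ) → Bool} (hP : Cl P) (b : I → ℤ) : Cl (Pp A P b) where
  add x y hx hy := by
    rw [pp_iff] at *
    exact ⟨hP.add x y hx.1 hy.1, by rw [bil_add, hx.2, hy.2, add_zero]⟩
  neg x hx := by
    rw [pp_iff] at *
    exact ⟨hP.neg x hx.1, by rw [bil_neg, hx.2, neg_zero]⟩

/-- the roots at 60° to `b`, as a list -/
def L60 (A : I → I → ℤ) (Rts : List (I → ℤ)) (P : (I → ℤ) → Bool) (b : I → ℤ) : List (I → ℤ) :=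
  Rts.filter fun r => P r && decide (bil A r b = 1)

/-- the roots at 60° to `b` -/
def S60 (A : I → I → ℤ) (Rts : List (I → ℤ)) (P : (I → ℤ) → Bool) (b : I → ℤ) : Finset (I → ℤ) :=
  (L60 A Rts P b).toFinset

theorem card_S60 {Rts : List (I → ℤ)} (hR : Rts.Nodup) (P : (I → ℤ) → Bool) (b : I → ℤ) :
    (S60 A Rts P b).card = (L60 A Rts P b).length := List.toFinset_card_of_nodup (hR.filter _)

theorem mem_S60 [Finite W] (hs : SL cs h) {Rts : List (I → ℤ)} (HR : RL cs h Rts) {P : (I → ℤ) → Bool} {b : I → ℤ}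
    (hb : IsRoot cs h b) {r : I → ℤ} :
    r ∈ S60 A Rts P b ↔ IsRoot cs h r ∧ P r = true ∧ cpr cs h r b = 1 := by
  unfold S60 L60
  rw [List.mem_toFinset, List.mem_filter, HR.mem, Bool.and_eq_true, decide_eq_true_iff, cpr_eq_bil hs r hb]

theorem card_S60_neg [Finite W] (hs : SL cs h) {Rts : List (I → ℤ)} (HR : RL cs h Rts) {P : (I → ℤ) → Bool} (hP : Cl P)
    {b : I → ℤ} (hb : IsRoot cs h b) : (S60 A Rts P (-b)).card = (S60 A Rts P b).card := by
  refine Finset.card_bij (fun r _ => -r) (fun r hr => ?_) (fun r _ r' _ e => neg_injective e) (fun r hr => ?_)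
  · rw [mem_S60 hs HR hb.neg] at hr
    rw [mem_S60 hs HR hb]
    refine ⟨hr.1.neg, hP.neg _ hr.2.1, ?_⟩
    rw [cpr_neg_left _ hb, ← cpr_neg_right cs h _ hb]
    exact hr.2.2
  · rw [mem_S60 hs HR hb] at hr
    refine ⟨-r, ?_, neg_neg r⟩
    rw [mem_S60 hs HR hb.neg]
    refine ⟨hr.1.neg, hP.neg _ hr.2.1, ?_⟩
    rw [cpr_neg_left _ hb.neg, cpr_neg_right cs h _ hb, neg_neg]
    exact hr.2.2

/-! ### the Heisenberg datum -/

section RG

variable (R : RGD cs h p T n X) [Finite W] (hs : SL cs h)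
  (hab : ∀ r, IsRoot cs h r → ∀ u ∈ X r, ∀ v ∈ X r, u * v = v * u)

include R hs hab

/-- **The Heisenberg datum of a root.** -/
theorem heis {Rts : List (I → ℤ)} (HR : RL cs h Rts) {P : (I → ℤ) → Bool} (hP : Cl P) {b : I → ℤ}
    (hb : IsRoot cs h b) (hPb : P b = true) : Heis (X b) X (S60 A Rts P b) (fun r => b - r) := by
  have key : ∀ {r : I → ℤ}, IsRoot cs h r → cpr cs h r b = 1 →
      IsRoot cs h (b - r) ∧ cpr cs h (b - r) b = 1 ∧ cpr cs h r (b - r) = -1 := by
    intro r hr h1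
    have h2 : cpr cs h b r = 1 := by rw [hs b r hb hr]; exact h1
    have h3 : IsRoot cs h (b - r) := isRoot_sub hb hr h2
    refine ⟨h3, ?_, ?_⟩
    · rw [sub_eq_add_neg, cpr_add cs h _ _ hb, cpr_self cs h hb, cpr_neg_left _ hb, h1]; norm_num
    · rw [← hs _ _ h3 hr, sub_eq_add_neg, cpr_add cs h _ _ hr, cpr_neg_left _ hr, cpr_self cs h hr, h2]; norm_num
  refine ⟨fun r hr => ?_, fun r _ => sub_sub_cancel b r, hab b hb, fun z hz r hr a ha => ?_,
    fun i hi j hj hij a ha c hc => ?_, fun i hi a ha c hc => ?_, fun i hi a ha ha1 z hz => ?_⟩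
  · rw [mem_S60 hs HR hb] at *
    obtain ⟨h1, h2, h3⟩ := hr
    obtain ⟨h4, h5, -⟩ := key h1 h3
    refine ⟨h4, ?_, h5⟩
    rw [sub_eq_add_neg]
    exact hP.add _ _ hPb (hP.neg _ h2)
  · obtain ⟨h1, -, h3⟩ := (mem_S60 hs HR hb).1 hr
    refine comm_X' R hs hb h1 ?_ ?_ hz ha
    · rw [hs b r hb h1, h3]; norm_num
    · rintro rfl
      rw [cpr_self cs h hb] at h3
      norm_num at h3
  · obtain ⟨h1, -, h3⟩ := (mem_S60 hs HR hb).1 hi
    obtain ⟨h1', -, h3'⟩ := (mem_S60 hs HR hb).1 hj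
    by_cases hij' : i = j
    · subst hij'
      exact hab i h1 a ha c hc
    · refine comm_X' R hs h1 h1' ?_ hij' ha hc
      rcases hs.cases h1 h1' with ⟨e, -⟩ | ⟨e, -⟩ | ⟨-, -, h4, -⟩
      · exact absurd e hij'
      · exfalso
        rw [e, cpr_neg_left _ hb, h3'] at h3
        norm_num at h3
      · by_contra hcon
        have h5 : cpr cs h i j = -1 := by omega
        have h6 : cpr cs h (i + j) b = 2 := by rw [cpr_add cs h _ _ hb, h3, h3']; norm_num
        have h7 : i + j = b := hs.eq_of_cpr (isRoot_add h1 h1' h5) hb (by rw [h6])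
        exact hij (by rw [← h7, add_sub_cancel_left])
  · obtain ⟨h1, -, h3⟩ := (mem_S60 hs HR hb).1 hi
    obtain ⟨h4, -, h6⟩ := key h1 h3
    have h7 := (hs.a2 h1 h4 h6).comm_mem R ha hc
    rwa [add_sub_cancel] at h7
  · obtain ⟨h1, -, h3⟩ := (mem_S60 hs HR hb).1 hi
    obtain ⟨h4, -, h6⟩ := key h1 h3
    exact (hs.a2 h1 h4 h6).comm_surj R ha ha1 (w := z) (by rwa [add_sub_cancel])

/-- **The order of the Heisenberg group.** -/
theorem card_QQ [Finite Y] {q : ℕ} (hq1 : 1 < q) (hX : ∀ r, IsRoot cs h r → Nat.card (X r) = q)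
    {Rts : List (I → ℤ)} (HR : RL cs h Rts) {P : (I → ℤ) → Bool} (hP : Cl P) {b : I → ℤ} (hb : IsRoot cs h b)
    (hPb : P b = true) : Nat.card (QQ (X b) X (S60 A Rts P b)) = q ^ (1 + (S60 A Rts P b).card) := by
  have H := heis R hs hab HR hP hb hPb
  set S := S60 A Rts P b with hS
  have hXS : ∀ i ∈ S, Nat.card (X i) = q := fun i hi => hX i ((mem_S60 hs HR hb).1 hi).1
  have hprod : ∏ i ∈ S, Nat.card (X i) = q ^ S.card := by
    rw [Finset.prod_congr rfl hXS, Finset.prod_const]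
  have hZ : X b ≠ ⊥ := by
    intro h1
    have h2 := hX b hb
    rw [h1, Subgroup.card_bot] at h2
    omega
  apply le_antisymm
  · let f : X b × (∀ i : S, X (i : I → ℤ)) → QQ (X b) X S := fun z =>
      ⟨z.1 * Heis.pr (fun i => if hi : i ∈ S then ((z.2 ⟨i, hi⟩ : X (i : I → ℤ)) : Y) else 1) S.toList,
        mul_mem (Heis.Z_le z.1.2) (Heis.pr_mem (fun i hi => Finset.mem_toList.1 hi) (fun i hi => by
          rw [dif_pos hi]; exact (z.2 ⟨i, hi⟩).2))⟩
    have hf : Function.Surjective f := by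
      rintro ⟨g, hg⟩
      obtain ⟨a, ha, z, hz, e⟩ := H.nf hg
      refine ⟨(⟨z, hz⟩, fun i => ⟨a i, ha i i.2⟩), Subtype.ext ?_⟩
      show z * Heis.pr _ S.toList = g
      rw [e]
      congr 1
      unfold Heis.pr
      congr 1
      refine List.map_congr_left fun i hi => ?_
      rw [dif_pos (Finset.mem_toList.1 hi)]
    have h1 := Nat.card_le_card_of_surjective f hf
    refine h1.trans (le_of_eq ?_)
    rw [Nat.card_prod, Nat.card_pi, hX b hb, pow_add, pow_one]
    congr 1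
    rw [← hprod]
    exact Finset.prod_coe_sort S fun i => Nat.card (X i)
  · have h1 := H.card_ge hZ
    rw [hprod, hX b hb] at h1
    rw [pow_add, pow_one]
    exact h1

/-- the normaliser of the Heisenberg group -/
theorem norm_QQ {Rts : List (I → ℤ)} (HR : RL cs h Rts) {P : (I → ℤ) → Bool} (hP : Cl P) {b : I → ℤ}
    (hb : IsRoot cs h b) {S : Set (I → ℤ)} (hS : ∀ c ∈ S, IsRoot cs h c ∧ P c = true ∧ cpr cs h c b = 0) :
    ∀ l ∈ RGD.Sup X S, ∀ u ∈ QQ (X b) X (S60 A Rts P b), l * u * l⁻¹ ∈ QQ (X b) X (S60 A Rts P b) := by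
  set Q := QQ (X b) X (S60 A Rts P b) with hQ
  have h1 : RGD.Sup X S ≤ normalizer (Q : Set Y) := by
    refine RGD.Sup_le fun c hc => ?_
    obtain ⟨hcr, hcP, hcb⟩ := hS c hc
    have key : ∀ y ∈ X c, ∀ u ∈ Q, y * u * y⁻¹ ∈ Q := by
      intro y hy
      have h2 : Q ≤ Q.comap (MulAut.conj y).toMonoidHom := by
        refine Heis.QQ_le ?_ ?_
        · intro z hz
          show y * z * y⁻¹ ∈ Q
          have h3 : y * z = z * y := by
            refine comm_X' R hs hcr hb (by rw [hcb]) ?_ hy hz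
            rintro rfl
            rw [cpr_self cs h hcr] at hcb
            norm_num at hcb
          rw [h3, mul_inv_cancel_right]
          exact Heis.Z_le hz
        · intro r hr z hz
          show y * z * y⁻¹ ∈ Q
          obtain ⟨hr1, hr2, hr3⟩ := (mem_S60 hs HR hb).1 hr
          have hne : c ≠ r := by
            rintro rfl
            rw [hcb] at hr3
            norm_num at hr3
          have e : y * z * y⁻¹ = ⁅y, z⁆ * z := by rw [commutatorElement_def, inv_mul_cancel_right]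
          by_cases h0 : 0 ≤ cpr cs h c r
          · rw [comm_X' R hs hcr hr1 h0 hne hy hz, mul_inv_cancel_right]
            exact Heis.X_le hr hz
          · rcases hs.cases hcr hr1 with ⟨e1, -⟩ | ⟨e1, -⟩ | ⟨-, -, h4, -⟩
            · exact absurd e1 hne
            · exfalso
              rw [e1, cpr_neg_left _ hb, hr3] at hcb
              norm_num at hcb
            · have h5 : cpr cs h c r = -1 := by omega
              have h6 : c + r ∈ S60 A Rts P b := by
                rw [mem_S60 hs HR hb]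
                exact ⟨isRoot_add hcr hr1 h5, hP.add _ _ hcP hr2, by rw [cpr_add cs h _ _ hb, hcb, hr3]; norm_num⟩
              rw [e]
              exact mul_mem (Heis.X_le h6 ((hs.a2 hcr hr1 h5).comm_mem R hy hz)) (Heis.X_le hr hz)
      intro u hu
      exact h2 hu
    intro y hy
    rw [mem_normalizer_iff]
    intro u
    constructor
    · exact key y hy u
    · intro hu
      have h2 := key y⁻¹ (inv_mem hy) _ hu
      have e : y⁻¹ * (y * u * y⁻¹) * y⁻¹⁻¹ = u := by group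
      rwa [e] at h2
  intro l hl u hu
  exact (mem_normalizer_iff.1 (h1 hl) u).1 hu

end RG

/-! ### chains -/

/-- the exponent of a chain -/
def wt (A : I → I → ℤ) (Rts : List (I → ℤ)) : List (I → ℤ) → ((I → ℤ) → Bool) → ℕ
  | [], _ => 0
  | b :: L, P => ((L60 A Rts P b).length / 2 + 1) + wt A Rts L (Pp A P b)

/-- a chain of orthogonal roots in `P` -/
def okc (A : I → I → ℤ) (Rts : List (I → ℤ)) : List (I → ℤ) → ((I → ℤ) → Bool) → Bool
  | [], _ => true
  | b :: L, P => decide (b ∈ Rts) && P b && okc A Rts L (Pp A P b)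

section Chain

variable (R : RGD cs h p T n X) [Finite W] (hs : SL cs h) [Finite Y]
  (hab : ∀ r, IsRoot cs h r → ∀ u ∈ X r, ∀ v ∈ X r, u * v = v * u)

include R hs hab

/-- **Chains.** -/
theorem phi_chain {q : ℕ} (hq1 : 1 < q) (ho : Odd q) (hX : ∀ r, IsRoot cs h r → Nat.card (X r) = q) {Zs : Set Y}
    (hZ2 : ∀ z ∈ Zs, z * z = 1) (hZc : ∀ g : Y, ∀ z ∈ Zs, g * z * g⁻¹ ∈ Zs)
    (hop : ∀ r, IsRoot cs h r → ∀ u ∈ X r, ∀ v ∈ X (-r), u ≠ 1 → v ≠ 1 → ∃ z ∈ Zs, z ∈ closure {u, v})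
    {Rts : List (I → ℤ)} (HR : RL cs h Rts) :
    ∀ (L : List (I → ℤ)) (P : (I → ℤ) → Bool), Cl P → okc A Rts L P = true →
      Phi (RGD.Sup X {r | IsRoot cs h r ∧ P r = true}) Zs (q ^ wt A Rts L P) := by
  intro L
  induction L with
  | nil =>
    intro P _ _ K _ _
    exact Nat.one_le_iff_ne_zero.2 (Cfsg.Agent.H203.IF.rel_ne _ _)
  | cons b L ih =>
    intro P hP hok
    unfold okc at hok
    rw [Bool.and_eq_true, Bool.and_eq_true, decide_eq_true_iff, HR.mem] at hok
    obtain ⟨⟨hb, hPb⟩, hok⟩ := hok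
    have h1 := ih (Pp A P b) (hP.perp b) hok
    have hPnb := hP.neg b hPb
    have H₁ := heis R hs hab HR hP hb hPb
    have H₂ := heis R hs hab HR hP hb.neg hPnb
    have c₁ := card_QQ R hs hab hq1 hX HR hP hb hPb
    have c₂ := card_QQ R hs hab hq1 hX HR hP hb.neg hPnb
    have hcard := card_S60 (A := A) HR.nodup P b
    have hcard' := (card_S60_neg hs HR hP hb).trans hcard
    rw [hcard] at c₁
    rw [hcard'] at c₂
    set k := (L60 A Rts P b).length with hk
    have hne : ∀ r, IsRoot cs h r → X r ≠ ⊥ := by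
      intro r hr h2
      have h3 := hX r hr
      rw [h2, Subgroup.card_bot] at h3
      omega
    have hm : (q ^ (k / 2 + 1)) ^ 2 ≤ q ^ (1 + k) * q := by
      rw [← pow_mul, ← pow_succ]
      exact Nat.pow_le_pow_right (by omega) (by omega)
    have hw : wt A Rts (b :: L) P = (k / 2 + 1) + wt A Rts L (Pp A P b) := rfl
    rw [hw, pow_add]
    have hS₁ : ∀ c ∈ {r | IsRoot cs h r ∧ Pp A P b r = true}, IsRoot cs h c ∧ P c = true ∧ cpr cs h c b = 0 := by
      rintro c ⟨hc, hc'⟩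
      rw [pp_iff] at hc'
      exact ⟨hc, hc'.1, by rw [cpr_eq_bil hs c hb]; exact hc'.2⟩
    have hS₂ : ∀ c ∈ {r | IsRoot cs h r ∧ Pp A P b r = true}, IsRoot cs h c ∧ P c = true ∧ cpr cs h c (-b) = 0 := by
      intro c hc
      obtain ⟨h2, h3, h4⟩ := hS₁ c hc
      exact ⟨h2, h3, by rw [cpr_neg_right cs h _ hb, h4, neg_zero]⟩
    refine Phi.step H₁ H₂ h1 (RGD.Sup_mono fun c hc => ⟨(hS₁ c hc).1, (hS₁ c hc).2.1⟩)
      (Heis.QQ_le (RGD.le_Sup ⟨hb, hPb⟩) fun r hr => RGD.le_Sup ?_)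
      (Heis.QQ_le (RGD.le_Sup ⟨hb.neg, hPnb⟩) fun r hr => RGD.le_Sup ?_)
      (by rw [c₁]; exact ho.pow) (by rw [c₂]; exact ho.pow) (norm_QQ R hs hab HR hP hb hS₁)
      (norm_QQ R hs hab HR hP hb.neg hS₂) (by rw [c₁, hX b hb]; exact hm) (by rw [c₂, hX _ hb.neg]; exact hm)
      (hne b hb) (hne _ hb.neg) hZ2 (fun g _ => hZc g) (hop b hb)
    · obtain ⟨h2, h3, -⟩ := (mem_S60 hs HR hb).1 hr
      exact ⟨h2, h3⟩
    · obtain ⟨h2, h3, -⟩ := (mem_S60 hs HR hb.neg).1 hr
      exact ⟨h2, h3⟩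

end Chain

end Cfsg.Agent.H897.IF
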